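import Groth.Agent.Lib.LimModMap20.Basic
import Groth.Agent.Lib.HomColim20.FP
import Groth.Agent.Lib.HomColim20.Pushforward
import Groth.Agent.Lib.ModDesc.Descend

/-!
# Homomorphisms out of finitely presented modules descend along limits
-/

set_option autoImplicit false
set_option linter.style.haveILetI false
set_option linter.unusedSectionVars false
set_option backward.isDefEq.respectTransparency false
set_option maxHeartbeats 1000000

universe u

open CategoryTheory CategoryTheory.Limits AlgebraicGeometry Opposite TopologicalSpace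
open GrothLib.ConsLim
open GrothLib.BCCoh (pullRes)

noncomputable section

namespace GrothLib.LimModMap20

section trans

variable {Y Y' Y'' Z : Scheme.{u}} (G : Z.Modules)

/-- The direct image of the pullback. -/
abbrev pushPull (q : Y ⟶ Z) : Z.Modules :=
  (Scheme.Modules.pushforward q).obj ((Scheme.Modules.pullback q).obj G)

variable {q : Y ⟶ Z} {q' : Y' ⟶ Z}

/-- The transition map attached to a morphism over the base. -/
irreducible_def pushPullMap (t : Y' ⟶ Y) (h : t ≫ q = q') : pushPull G q ⟶ pushPull G q' :=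
  (Scheme.Modules.pushforward q).map ((Scheme.Modules.pullbackPushforwardAdjunction t).homEquiv _ _
      ((Scheme.Modules.pullbackComp t q).hom.app G)) ≫
    (Scheme.Modules.pushforwardComp t q).hom.app _ ≫
    eqToHom (by rw [h])

theorem pushPullMap_app (t : Y' ⟶ Y) (h : t ≫ q = q') (U : Z.Opens) (e : q' ⁻¹ᵁ U ≤ t ⁻¹ᵁ (q ⁻¹ᵁ U))
    (x : Γ((Scheme.Modules.pullback q).obj G, q ⁻¹ᵁ U)) :
    (pushPullMap G t h).app U x =
      ((Scheme.Modules.pullbackComp t q).hom.app G ≫ (Scheme.Modules.pullbackCongr h).hom.app G).app (q' ⁻¹ᵁ U)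
        (pullRes t ((Scheme.Modules.pullback q).obj G) (q ⁻¹ᵁ U) (q' ⁻¹ᵁ U) e x) := by
  subst h
  rw [pushPullMap_def, eqToHom_refl, Category.comp_id, Adjunction.homEquiv_unit, CohPullLib.pullRes_def]
  refine Eq.trans ?_ (congrArg _ (CohPullLib.map_sec_self _ _ _).symm)
  rfl

theorem pushPullMap_pullRes (t : Y' ⟶ Y) (h : t ≫ q = q') (U : Z.Opens) (e : q' ⁻¹ᵁ U ≤ t ⁻¹ᵁ (q ⁻¹ᵁ U))
    (a : Γ(Y, q ⁻¹ᵁ U)) (g : Γ(G, U)) :
    (pushPullMap G t h).app U (show Γ(pushPull G q, U) from a • pullRes q G U (q ⁻¹ᵁ U) le_rfl g) =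
      (show Γ((Scheme.Modules.pullback q').obj G, q' ⁻¹ᵁ U) from
        t.appLE (q ⁻¹ᵁ U) (q' ⁻¹ᵁ U) e a • pullRes q' G U (q' ⁻¹ᵁ U) le_rfl g) := by
  rw [pushPullMap_app G t h U e, BCCoh.pullRes_smul, Scheme.Modules.Hom.app_smul]
  refine congrArg (fun z => t.appLE (q ⁻¹ᵁ U) (q' ⁻¹ᵁ U) e a • z) ?_
  rw [Scheme.Modules.Hom.comp_app, ConcreteCategory.comp_apply,
    CohPullLib.pullbackComp_pullRes t q G U _ _ le_rfl e (by rw [h])]
  exact CohPullLib.pullbackCongr_pullRes h G U _ _ le_rfl g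

/-- A property of the sections of the direct image of the pullback holds if it holds on generators. -/
theorem induction_pushPull [IsAffineHom q] [G.IsQuasicoherent] {U : Z.Opens} (hU : IsAffineOpen U)
    (P : Γ((Scheme.Modules.pullback q).obj G, q ⁻¹ᵁ U) → Prop) (h0 : P 0) (hadd : ∀ a b, P a → P b → P (a + b))
    (hgen : ∀ (a : Γ(Y, q ⁻¹ᵁ U)) (g : Γ(G, U)), P (a • pullRes q G U (q ⁻¹ᵁ U) le_rfl g))
    (x : Γ((Scheme.Modules.pullback q).obj G, q ⁻¹ᵁ U)) : P x := by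
  letI : Algebra Γ(Z, U) Γ(Y, q ⁻¹ᵁ U) := (q.appLE U (q ⁻¹ᵁ U) le_rfl).hom.toAlgebra
  obtain ⟨z, rfl⟩ := (QCoh.bijective_sectionsMap q G le_rfl rfl hU (hU.preimage q)).2 x
  induction z using TensorProduct.induction_on with
  | zero => rw [map_zero]; exact h0
  | add a b ha hb => rw [map_add]; exact hadd _ _ ha hb
  | tmul a g => exact hgen a g

theorem pushPull_hom_ext [IsAffineHom q] [G.IsQuasicoherent] {M : Z.Modules} {f g : pushPull G q ⟶ M}
    (h : ∀ (U : Z.Opens), IsAffineOpen U → ∀ (a : Γ(Y, q ⁻¹ᵁ U)) (m : Γ(G, U)),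
      f.app U (show Γ(pushPull G q, U) from a • pullRes q G U (q ⁻¹ᵁ U) le_rfl m) =
        g.app U (show Γ(pushPull G q, U) from a • pullRes q G U (q ⁻¹ᵁ U) le_rfl m)) : f = g := by
  refine AffHom.hom_ext fun U x => ?_
  let P : Γ((Scheme.Modules.pullback q).obj G, q ⁻¹ᵁ U.1) → Prop :=
    fun x => f.app U.1 (show Γ(pushPull G q, U.1) from x) = g.app U.1 (show Γ(pushPull G q, U.1) from x)
  have h0 : P 0 := by
    show f.app U.1 (0 : Γ(pushPull G q, U.1)) = g.app U.1 (0 : Γ(pushPull G q, U.1))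
    rw [map_zero, map_zero]
  have hadd : ∀ a b, P a → P b → P (a + b) := fun a b (ha : _ = _) (hb : _ = _) => by
    show f.app U.1 ((show Γ(pushPull G q, U.1) from a) + (show Γ(pushPull G q, U.1) from b)) =
      g.app U.1 ((show Γ(pushPull G q, U.1) from a) + (show Γ(pushPull G q, U.1) from b))
    rw [map_add, map_add, ha, hb]
  exact induction_pushPull G U.2 P h0 hadd (fun a m => h U.1 U.2 a m) x

theorem pushPullMap_id [IsAffineHom q] [G.IsQuasicoherent] (h : 𝟙 Y ≫ q = q) :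
    pushPullMap G (𝟙 Y) h = 𝟙 (pushPull G q) :=
  pushPull_hom_ext G fun U _ a m => by
    rw [pushPullMap_pullRes G _ h U le_rfl a m]
    exact congrArg (fun z : Γ(Y, q ⁻¹ᵁ U) => z • pullRes q G U (q ⁻¹ᵁ U) le_rfl m)
      ((ConcreteCategory.congr_hom (Scheme.Hom.app_eq_appLE (f := 𝟙 Y)).symm a).trans rfl)

theorem pushPullMap_comp {q'' : Y'' ⟶ Z} [IsAffineHom q] [G.IsQuasicoherent] (t : Y' ⟶ Y) (t' : Y'' ⟶ Y')
    (h : t ≫ q = q') (h' : t' ≫ q' = q'') (h'' : (t' ≫ t) ≫ q = q'') :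
    pushPullMap G t h ≫ pushPullMap G t' h' = pushPullMap G (t' ≫ t) h'' :=
  pushPull_hom_ext G fun U _ a m => by
    have e : q' ⁻¹ᵁ U ≤ t ⁻¹ᵁ (q ⁻¹ᵁ U) := by rw [← h]; rfl
    have e' : q'' ⁻¹ᵁ U ≤ t' ⁻¹ᵁ (q' ⁻¹ᵁ U) := by rw [← h']; rfl
    rw [Scheme.Modules.Hom.comp_app, ConcreteCategory.comp_apply]
    refine Eq.trans (congrArg ((pushPullMap G t' h').app U) (pushPullMap_pullRes G t h U e a m)) ?_
    refine (pushPullMap_pullRes G t' h' U e' (t.appLE (q ⁻¹ᵁ U) (q' ⁻¹ᵁ U) e a) m).trans ?_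
    refine Eq.trans ?_ (pushPullMap_pullRes G (t' ≫ t) h'' U (e'.trans (t'.preimage_mono e)) a m).symm
    exact congrArg (fun z : Γ(Y'', q'' ⁻¹ᵁ U) => z • pullRes q'' G U (q'' ⁻¹ᵁ U) le_rfl m)
      (ConcreteCategory.congr_hom (Scheme.Hom.appLE_comp_appLE t' t (q ⁻¹ᵁ U) (q' ⁻¹ᵁ U) (q'' ⁻¹ᵁ U) e e') a)

end trans

variable {I : Type u} [SmallCategory I] [IsCofiltered I] {D : I ⥤ Scheme.{u}} {c : Cone D} (hc : IsLimit c)
  [∀ (i j : I) (f : i ⟶ j), IsAffineHom (D.map f)] (i₀ : I) (G : (D.obj i₀).Modules) [G.IsQuasicoherent]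

theorem map_left_comp {j k : Over i₀} (f : k ⟶ j) : D.map f.left ≫ D.map j.hom = D.map k.hom := by
  rw [← D.map_comp, Over.w f]

/-- The system of the direct images of the pullbacks to the stages. -/
def stageDiag : (Over i₀)ᵒᵖ ⥤ (D.obj i₀).Modules where
  obj j := pushPull G (D.map j.unop.hom)
  map f := pushPullMap G (D.map f.unop.left) (map_left_comp i₀ f.unop)
  map_id j := by
    simp only [unop_id, Over.id_left, D.map_id]
    exact pushPullMap_id G _
  map_comp f g := by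
    simp only [unop_comp, Over.comp_left, D.map_comp]
    exact (pushPullMap_comp G _ _ _ _ _).symm

/-- The cocone with tip the direct image of the pullback to the limit. -/
def stageCocone : Cocone (stageDiag (D := D) i₀ G) where
  pt := pushPull G (c.π.app i₀)
  ι :=
    { app := fun j => pushPullMap G (c.π.app j.unop.left) (c.w j.unop.hom)
      naturality := fun j k f => by
        haveI : IsAffineHom (D.map j.unop.hom) := inferInstance
        refine Eq.trans ?_ (Category.comp_id _).symm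
        have h' : (c.π.app k.unop.left ≫ D.map f.unop.left) ≫ D.map j.unop.hom = c.π.app i₀ := by
          rw [Category.assoc, map_left_comp i₀ f.unop, c.w]
        refine (pushPullMap_comp G (D.map f.unop.left) (c.π.app k.unop.left) (map_left_comp i₀ f.unop)
          (c.w k.unop.hom) h').trans ?_
        congr 1
        exact c.w f.unop.left }

include hc in
theorem isColimit_stageCocone [QuasiSeparatedSpace (D.obj i₀)] :
    Nonempty (IsColimit (stageCocone (c := c) i₀ G)) := by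
  classical
  haveI : IsAffineHom (c.π.app i₀) := isAffineHom_π_app D c hc i₀
  refine HomColim20.isColimit_of_sections _ (AffHom.isBasis_affB (D.obj i₀)) (fun U => U.2.isCompact)
    (fun U t => ?_) (fun U j x hx => ?_)
  · refine induction_pushPull G (q := c.π.app i₀) U.2
      (fun t => ∃ (j : (Over i₀)ᵒᵖ) (x : Γ((stageDiag (D := D) i₀ G).obj j, U.1)),
        ((stageCocone (c := c) i₀ G).ι.app j).app U.1 x = (show Γ((stageCocone (c := c) i₀ G).pt, U.1) from t))
      ⟨op (Over.mk (𝟙 i₀)), 0, map_zero _⟩ ?_ ?_ t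
    · rintro a b ⟨j, x, rfl⟩ ⟨k, y, rfl⟩
      refine ⟨IsFiltered.max j k, ((stageDiag (D := D) i₀ G).map (IsFiltered.leftToMax j k)).app U.1 x +
        ((stageDiag (D := D) i₀ G).map (IsFiltered.rightToMax j k)).app U.1 y, ?_⟩
      rw [map_add, HomColim20.ι_app_map_app, HomColim20.ι_app_map_app]
    · intro a g
      obtain ⟨k, φ, e, b, hb⟩ := FlatLimit.exists_appLE_π_eq D c hc U.2 a
      refine ⟨op (Over.mk φ), (show Γ((Scheme.Modules.pullback (D.map φ)).obj G, D.map φ ⁻¹ᵁ U.1) from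
        b • pullRes (D.map φ) G U.1 _ le_rfl g), ?_⟩
      refine (pushPullMap_pullRes G _ (c.w φ) U.1 e b g).trans ?_
      exact congrArg (fun z => z • pullRes (c.π.app i₀) G U.1 _ le_rfl g) hb
  · let j' := j.unop
    let Gj := (Scheme.Modules.pullback (D.map j'.hom)).obj G
    haveI : Gj.IsQuasicoherent := FittSheaf.isQuasicoherent_pullback (D.map j'.hom) G
    haveI : IsAffineHom (c.π.app j'.left) := isAffineHom_π_app D c hc j'.left
    have hV : IsAffineOpen (D.map j'.hom ⁻¹ᵁ U.1) := U.2.preimage _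
    have e : c.π.app i₀ ⁻¹ᵁ U.1 = c.π.app j'.left ⁻¹ᵁ (D.map j'.hom ⁻¹ᵁ U.1) := by
      rw [← Scheme.Hom.comp_preimage, c.w]
    let x' : Γ(Gj, D.map j'.hom ⁻¹ᵁ U.1) := x
    have h0 : pullRes (c.π.app j'.left) Gj _ (c.π.app j'.left ⁻¹ᵁ (D.map j'.hom ⁻¹ᵁ U.1)) le_rfl x' = 0 := by
      have h1 := (pushPullMap_app G _ (c.w j'.hom) U.1 e.le x').symm.trans hx
      have h2 : pullRes (c.π.app j'.left) Gj _ (c.π.app i₀ ⁻¹ᵁ U.1) e.le x' = 0 :=
        (ConcreteCategory.bijective_of_isIso (((Scheme.Modules.pullbackComp (c.π.app j'.left) (D.map j'.hom)).hom.app G ≫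
          (Scheme.Modules.pullbackCongr (c.w j'.hom)).hom.app G).app (c.π.app i₀ ⁻¹ᵁ U.1))).1 (h1.trans (map_zero _).symm)
      have h3 := congrArg (((Scheme.Modules.pullback (c.π.app j'.left)).obj Gj).presheaf.map (homOfLE e.ge).op) h2
      rw [map_zero, CohPullLib.pullRes_def, CohPullLib.map_map_sec] at h3
      exact h3
    letI : ∀ l : Over j'.left, Algebra Γ(D.obj j'.left, D.map j'.hom ⁻¹ᵁ U.1)
        (secStage (D := D) j'.left (D.map j'.hom ⁻¹ᵁ U.1) l) := fun l =>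
      ((D.map l.hom).appLE _ _ le_rfl).hom.toAlgebra
    letI : Algebra Γ(D.obj j'.left, D.map j'.hom ⁻¹ᵁ U.1)
        Γ(c.pt, pr c j'.left ⁻¹ᵁ (D.map j'.hom ⁻¹ᵁ U.1)) := ((pr c j'.left).appLE _ _ le_rfl).hom.toAlgebra
    obtain ⟨g, hst⟩ := isStage_sections hc j'.left hV
    obtain ⟨l, ψ, -, hl⟩ := hst.vanish_tmul_finite Γ(Gj, D.map j'.hom ⁻¹ᵁ U.1) (Over.mk (𝟙 j'.left))
      (fun _ : Fin 1 => (1 : secStage (D := D) j'.left (D.map j'.hom ⁻¹ᵁ U.1) (Over.mk (𝟙 j'.left))) ⊗ₜ x') fun _ => by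
        rw [LinearMap.rTensor_tmul, AlgHom.toLinearMap_apply, map_one]
        exact (pullSec_eq_zero_iff (pr c j'.left) Gj hV (hV.preimage _) le_rfl _).1 h0
    have hl0 := hl 0
    rw [LinearMap.rTensor_tmul, AlgHom.toLinearMap_apply, map_one] at hl0
    have hl1 : pullRes (D.map l.hom) Gj _ (D.map l.hom ⁻¹ᵁ (D.map j'.hom ⁻¹ᵁ U.1)) le_rfl x' = 0 :=
      (pullSec_eq_zero_iff (D.map l.hom) Gj hV (hV.preimage _) le_rfl _).2 hl0
    let k : Over i₀ := Over.mk (l.hom ≫ j'.hom)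
    refine ⟨op k, (Over.homMk l.hom rfl : k ⟶ j').op, ?_⟩
    have e' : D.map k.hom ⁻¹ᵁ U.1 ≤ D.map l.hom ⁻¹ᵁ (D.map j'.hom ⁻¹ᵁ U.1) := by
      rw [← Scheme.Hom.comp_preimage, ← D.map_comp]; rfl
    refine (pushPullMap_app G (D.map l.hom) (map_left_comp i₀ (Over.homMk l.hom rfl : k ⟶ j')) U.1 e' x').trans ?_
    have h2 : pullRes (D.map l.hom) Gj _ (D.map k.hom ⁻¹ᵁ U.1) e' x' = 0 := by
      have h3 := congrArg (((Scheme.Modules.pullback (D.map l.hom)).obj Gj).presheaf.map (homOfLE e').op) hl1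
      rw [map_zero, CohPullLib.pullRes_def, CohPullLib.map_map_sec] at h3
      exact h3
    rw [h2, map_zero]

include hc in
/-- A homomorphism out of a finitely presented module comes from a stage. -/
theorem exists_hom_stage [CompactSpace (D.obj i₀)] [QuasiSeparatedSpace (D.obj i₀)] {F : (D.obj i₀).Modules}
    [F.IsQuasicoherent] (hF : CohB1.IsFP F)
    (h : (Scheme.Modules.pullback (c.π.app i₀)).obj F ⟶ (Scheme.Modules.pullback (c.π.app i₀)).obj G) :
    ∃ (j : I) (φ : j ⟶ i₀) (hj : (Scheme.Modules.pullback (D.map φ)).obj F ⟶ (Scheme.Modules.pullback (D.map φ)).obj G),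
      (ModDesc.theta D c i₀ F φ).inv ≫ (Scheme.Modules.pullback (c.π.app j)).map hj ≫ (ModDesc.theta D c i₀ G φ).hom = h := by
  obtain ⟨hC⟩ := isColimit_stageCocone hc i₀ G
  let adj := Scheme.Modules.pullbackPushforwardAdjunction (c.π.app i₀)
  obtain ⟨jo, g, hg⟩ := HomColim20.exists_factor hF hC (adj.homEquiv _ _ h)
  let j := jo.unop.left
  let φ : j ⟶ i₀ := jo.unop.hom
  let hj := ((Scheme.Modules.pullbackPushforwardAdjunction (D.map φ)).homEquiv F _).symm g
  refine ⟨j, φ, hj, (adj.homEquiv F _).injective (AffHom.hom_ext fun U m => ?_)⟩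
  have e : c.π.app i₀ ⁻¹ᵁ U.1 ≤ c.π.app j ⁻¹ᵁ (D.map φ ⁻¹ᵁ U.1) := by
    rw [← Scheme.Hom.comp_preimage, c.w]
  have hval : ∀ k : (Scheme.Modules.pullback (c.π.app i₀)).obj F ⟶ (Scheme.Modules.pullback (c.π.app i₀)).obj G,
      (adj.homEquiv _ _ k).app U.1 m = k.app (c.π.app i₀ ⁻¹ᵁ U.1) (pullRes (c.π.app i₀) F U.1 _ le_rfl m) := fun k => by
    rw [Adjunction.homEquiv_unit, CohPullLib.pullRes_def]
    refine Eq.trans ?_ (congrArg _ (CohPullLib.map_sec_self _ _ _).symm)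
    rfl
  refine Eq.trans ?_ (congrArg (fun t => Scheme.Modules.Hom.app t U.1 m) hg)
  rw [hval, Scheme.Modules.Hom.comp_app, ConcreteCategory.comp_apply, Scheme.Modules.Hom.comp_app,
    ConcreteCategory.comp_apply]
  have h1 : (ModDesc.theta D c i₀ F φ).inv.app (c.π.app i₀ ⁻¹ᵁ U.1) (pullRes (c.π.app i₀) F U.1 _ le_rfl m) =
      pullRes (c.π.app j) _ _ _ e (pullRes (D.map φ) F U.1 _ le_rfl m) := by
    rw [← ModDesc.theta_pullRes D c i₀ F φ U.1 _ le_rfl e m, ← ConcreteCategory.comp_apply,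
      ← Scheme.Modules.Hom.comp_app, Iso.hom_inv_id]
    rfl
  rw [h1, CohPullLib.pullRes_map, ModDesc.homEquiv_symm_pullRes, CohPullLib.map_sec_self]
  exact (pushPullMap_app G (c.π.app j) (c.w φ) U.1 e _).symm

end GrothLib.LimModMap20

namespace GrothLib.LimModMap20

section conj

variable {Y Y' Y'' Z : Scheme.{u}} {F G : Z.Modules} {q : Y ⟶ Z} {q' : Y' ⟶ Z} {q'' : Y'' ⟶ Z}

/-- Two pullbacks in a row. -/
abbrev pullIso (F : Z.Modules) (t : Y' ⟶ Y) (h : t ≫ q = q') :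
    (Scheme.Modules.pullback t).obj ((Scheme.Modules.pullback q).obj F) ≅ (Scheme.Modules.pullback q').obj F :=
  (Scheme.Modules.pullbackComp t q ≪≫ Scheme.Modules.pullbackCongr h).app F

/-- A homomorphism of pullbacks, pulled back further. -/
abbrev conjPull (t : Y' ⟶ Y) (h : t ≫ q = q')
    (f : (Scheme.Modules.pullback q).obj F ⟶ (Scheme.Modules.pullback q).obj G) :
    (Scheme.Modules.pullback q').obj F ⟶ (Scheme.Modules.pullback q').obj G :=
  (pullIso F t h).inv ≫ (Scheme.Modules.pullback t).map f ≫ (pullIso G t h).hom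

theorem conjPull_pullRes (t : Y' ⟶ Y) (h : t ≫ q = q')
    (f : (Scheme.Modules.pullback q).obj F ⟶ (Scheme.Modules.pullback q).obj G) (U : Z.Opens) (m : Γ(F, U)) :
    (conjPull t h f).app (q' ⁻¹ᵁ U) (pullRes q' F U (q' ⁻¹ᵁ U) le_rfl m) =
      (pushPullMap G t h).app U (show Γ(pushPull G q, U) from f.app (q ⁻¹ᵁ U) (pullRes q F U (q ⁻¹ᵁ U) le_rfl m)) := by
  have e : q' ⁻¹ᵁ U ≤ t ⁻¹ᵁ (q ⁻¹ᵁ U) := by rw [← h]; rfl
  have h1 : (pullIso F t h).inv.app (q' ⁻¹ᵁ U) (pullRes q' F U (q' ⁻¹ᵁ U) le_rfl m) =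
      pullRes t _ _ _ e (pullRes q F U (q ⁻¹ᵁ U) le_rfl m) := by
    have h2 : (pullIso F t h).hom.app (q' ⁻¹ᵁ U) (pullRes t _ _ _ e (pullRes q F U (q ⁻¹ᵁ U) le_rfl m)) =
        pullRes q' F U (q' ⁻¹ᵁ U) le_rfl m := by
      rw [Iso.app_hom, Iso.trans_hom, NatTrans.comp_app, Scheme.Modules.Hom.comp_app, ConcreteCategory.comp_apply]
      exact (congrArg (((Scheme.Modules.pullbackCongr h).hom.app F).app (q' ⁻¹ᵁ U))
        (CohPullLib.pullbackComp_pullRes t q F U (q ⁻¹ᵁ U) (q' ⁻¹ᵁ U) le_rfl e (by rw [h]) m)).trans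
        (CohPullLib.pullbackCongr_pullRes h F U _ _ le_rfl m)
    rw [← h2, ← ConcreteCategory.comp_apply, ← Scheme.Modules.Hom.comp_app, Iso.hom_inv_id]
    rfl
  rw [Scheme.Modules.Hom.comp_app, ConcreteCategory.comp_apply, Scheme.Modules.Hom.comp_app,
    ConcreteCategory.comp_apply, h1, CohPullLib.pullRes_map]
  exact (pushPullMap_app G t h U e _).symm

theorem hom_ext_pullRes {M : Y.Modules} {k k' : (Scheme.Modules.pullback q).obj F ⟶ M}
    (h : ∀ (U : Z.affineOpens) (m : Γ(F, U.1)),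
      k.app (q ⁻¹ᵁ U.1) (pullRes q F U.1 _ le_rfl m) = k'.app (q ⁻¹ᵁ U.1) (pullRes q F U.1 _ le_rfl m)) : k = k' := by
  refine ((Scheme.Modules.pullbackPushforwardAdjunction q).homEquiv _ _).injective (AffHom.hom_ext fun U m => ?_)
  have hval : ∀ k : (Scheme.Modules.pullback q).obj F ⟶ M,
      ((Scheme.Modules.pullbackPushforwardAdjunction q).homEquiv _ _ k).app U.1 m =
        k.app (q ⁻¹ᵁ U.1) (pullRes q F U.1 _ le_rfl m) := fun k => by
    rw [Adjunction.homEquiv_unit, CohPullLib.pullRes_def]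
    refine Eq.trans ?_ (congrArg _ (CohPullLib.map_sec_self _ _ _).symm)
    rfl
  rw [hval, hval]
  exact h U m

theorem conjPull_conjPull [IsAffineHom q] [G.IsQuasicoherent] (t : Y' ⟶ Y) (t' : Y'' ⟶ Y') (h : t ≫ q = q')
    (h' : t' ≫ q' = q'') (h'' : (t' ≫ t) ≫ q = q'')
    (f : (Scheme.Modules.pullback q).obj F ⟶ (Scheme.Modules.pullback q).obj G) :
    conjPull t' h' (conjPull t h f) = conjPull (t' ≫ t) h'' f := by
  refine hom_ext_pullRes fun U m => ?_
  rw [conjPull_pullRes, conjPull_pullRes, conjPull_pullRes]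
  have := congrArg (fun k => Scheme.Modules.Hom.app k U.1
    (show Γ(pushPull G q, U.1) from f.app (q ⁻¹ᵁ U.1) (pullRes q F U.1 (q ⁻¹ᵁ U.1) le_rfl m)))
    (pushPullMap_comp G t t' h h' h'')
  exact (ConcreteCategory.comp_apply _ _ _).symm.trans this

theorem conjPull_congr {s s' : Y' ⟶ Y} (e : s = s') (h : s ≫ q = q') (h' : s' ≫ q = q')
    (f : (Scheme.Modules.pullback q).obj F ⟶ (Scheme.Modules.pullback q).obj G) :
    conjPull s h f = conjPull s' h' f := by
  subst e; rfl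

end conj

variable {I : Type u} [SmallCategory I] [IsCofiltered I] {D : I ⥤ Scheme.{u}} {c : Cone D} (hc : IsLimit c)
  [∀ (i j : I) (f : i ⟶ j), IsAffineHom (D.map f)] (i₀ : I)

include hc in
/-- A homomorphism out of a finitely presented module comes from a stage. -/
theorem exists_conjPull_eq [CompactSpace (D.obj i₀)] [QuasiSeparatedSpace (D.obj i₀)] {F G : (D.obj i₀).Modules}
    [F.IsQuasicoherent] [G.IsQuasicoherent] (hF : CohB1.IsFP F)
    (h : (Scheme.Modules.pullback (c.π.app i₀)).obj F ⟶ (Scheme.Modules.pullback (c.π.app i₀)).obj G) :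
    ∃ (j : I) (φ : j ⟶ i₀) (hj : (Scheme.Modules.pullback (D.map φ)).obj F ⟶ (Scheme.Modules.pullback (D.map φ)).obj G),
      conjPull (c.π.app j) (c.w φ) hj = h := by
  obtain ⟨j, φ, hj, e⟩ := exists_hom_stage hc i₀ G hF h
  exact ⟨j, φ, hj, e⟩

include hc in
/-- The restriction to a later stage represents the same homomorphism. -/
theorem conjPull_stage {F G : (D.obj i₀).Modules} [G.IsQuasicoherent] {j l : I} (φ : j ⟶ i₀) (χ : l ⟶ j)
    (hw : D.map χ ≫ D.map φ = D.map (χ ≫ φ))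
    (hj : (Scheme.Modules.pullback (D.map φ)).obj F ⟶ (Scheme.Modules.pullback (D.map φ)).obj G) :
    conjPull (c.π.app l) (c.w (χ ≫ φ)) (conjPull (D.map χ) hw hj) = conjPull (c.π.app j) (c.w φ) hj := by
  rw [conjPull_conjPull _ _ _ _ (by rw [Category.assoc, hw, c.w]) hj]
  exact conjPull_congr (c.w χ) _ _ _

end GrothLib.LimModMap20
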