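import Groth.Agent.Lib.FunFlat6.Vanish
import Groth.Agent.Lib.FunFlat6.LimitFunctors
import Groth.Agent.Lib.ConsLim.LimFlat
import Groth.Agent.Lib.Neutral.Limit
import Groth.Agent.Lib.LimRank8.Basic

/-!
# Epimorphisms, zero maps and isomorphisms of modules descend along limits
-/

set_option autoImplicit false
set_option linter.style.haveILetI false
set_option backward.isDefEq.respectTransparency false
set_option maxHeartbeats 1000000

universe u

open CategoryTheory CategoryTheory.Limits AlgebraicGeometry Opposite TopologicalSpace TensorProduct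
open GrothLib.ConsLim

noncomputable section

namespace GrothLib.LimModMap20

variable {I : Type u} [SmallCategory I] [IsCofiltered I] {D : I ⥤ Scheme.{u}} {c : Cone D} (hc : IsLimit c)
  [∀ (i j : I) (f : i ⟶ j), IsAffineHom (D.map f)] (i₀ : I)

theorem pullSec_eq_zero_iff {Y Z : Scheme.{u}} (q : Y ⟶ Z) (G : Z.Modules) [G.IsQuasicoherent] {U : Z.Opens}
    {P : Y.Opens} (hU : IsAffineOpen U) (hP : IsAffineOpen P) (e : P ≤ q ⁻¹ᵁ U) (n : Γ(G, U)) :
    letI : Algebra Γ(Z, U) Γ(Y, P) := (q.appLE U P e).hom.toAlgebra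
    QCoh.pullSec q G e n = 0 ↔ (1 : Γ(Y, P)) ⊗ₜ[Γ(Z, U)] n = 0 := by
  letI : Algebra Γ(Z, U) Γ(Y, P) := (q.appLE U P e).hom.toAlgebra
  let E := LinearEquiv.ofBijective _ (QCoh.bijective_sectionsMap q G e rfl hU hP)
  have : QCoh.pullSec q G e n = E ((1 : Γ(Y, P)) ⊗ₜ[Γ(Z, U)] n) := by
    rw [LinearEquiv.ofBijective_apply, QCoh.sectionsMap_tmul, one_smul]
  rw [this, LinearEquiv.map_eq_zero_iff]

/-- The functions on the preimage of an affine open at the later stages. -/
abbrev secStage (U : (D.obj i₀).Opens) (j : Over i₀) : Type u := Γ(D.obj j.left, D.map j.hom ⁻¹ᵁ U)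

include hc in
/-- The functions over an affine open form a colimit. -/
theorem isStage_sections {U : (D.obj i₀).Opens} (hU : IsAffineOpen U) :
    letI : ∀ j : Over i₀, Algebra Γ(D.obj i₀, U) (secStage (D := D) i₀ U j) := fun j =>
      ((D.map j.hom).appLE U (D.map j.hom ⁻¹ᵁ U) le_rfl).hom.toAlgebra
    letI : Algebra Γ(D.obj i₀, U) Γ(c.pt, pr c i₀ ⁻¹ᵁ U) := ((pr c i₀).appLE U _ le_rfl).hom.toAlgebra
    ∃ g : ∀ j : Over i₀, secStage (D := D) i₀ U j →ₐ[Γ(D.obj i₀, U)] Γ(c.pt, pr c i₀ ⁻¹ᵁ U),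
      RingStage.IsStage Γ(D.obj i₀, U) (secStage (D := D) i₀ U) Γ(c.pt, pr c i₀ ⁻¹ᵁ U) g := by
  classical
  letI : ∀ j : Over i₀, Algebra Γ(D.obj i₀, U) (secStage (D := D) i₀ U j) := fun j =>
    ((D.map j.hom).appLE U (D.map j.hom ⁻¹ᵁ U) le_rfl).hom.toAlgebra
  letI : Algebra Γ(D.obj i₀, U) Γ(c.pt, pr c i₀ ⁻¹ᵁ U) := ((pr c i₀).appLE U _ le_rfl).hom.toAlgebra
  let g : ∀ j : Over i₀, secStage (D := D) i₀ U j →ₐ[Γ(D.obj i₀, U)] Γ(c.pt, pr c i₀ ⁻¹ᵁ U) := fun j =>
    { ((pr c j.left).appLE _ _ (π_le c j.hom U)).hom with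
      commutes' := fun a => appLE_appLE (pr_w c j.hom) _ _ _ _ _ le_rfl a }
  have key : ∀ {j k : Over i₀} (φ : k ⟶ j),
      ∃ ψ : secStage (D := D) i₀ U j →ₐ[Γ(D.obj i₀, U)] secStage (D := D) i₀ U k, (g k).comp ψ = g j ∧
        ∀ e a, ψ a = (D.map φ.left).appLE (D.map j.hom ⁻¹ᵁ U) (D.map k.hom ⁻¹ᵁ U) e a := by
    intro j k φ
    have hw : φ.left ≫ j.hom = k.hom := Over.w φ
    have hle : D.map k.hom ⁻¹ᵁ U ≤ D.map φ.left ⁻¹ᵁ (D.map j.hom ⁻¹ᵁ U) := by
      rw [← stage_le D, hw]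
    exact ⟨{ ((D.map φ.left).appLE _ _ hle).hom with
        commutes' := fun a => appLE_appLE (show D.map φ.left ≫ D.map j.hom = D.map k.hom by
          rw [← D.map_comp, hw]) _ _ _ _ _ le_rfl a },
      AlgHom.ext fun a => appLE_appLE (pr_w c φ.left) _ _ _ _ _ (π_le c j.hom U) a, fun _ _ => rfl⟩
  refine ⟨g, ⟨⟨Over.mk (𝟙 i₀)⟩, fun j j' => ?_, fun a => ?_, fun j x hx => ?_⟩⟩
  · obtain ⟨ψ, hψ, -⟩ := key (IsCofiltered.minToLeft j j')
    obtain ⟨ψ', hψ', -⟩ := key (IsCofiltered.minToRight j j')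
    exact ⟨_, ψ, ψ', hψ, hψ'⟩
  · obtain ⟨k, φ, t, ht⟩ := exists_common_lift hc hU (fun _ : Fin 1 => a)
    exact ⟨Over.mk φ, t 0, ht 0⟩
  · obtain ⟨k, φ, hk⟩ := exists_stage_appLE_eq_zero hc j.hom hU x hx
    obtain ⟨ψ, hψ, he⟩ := key (Over.homMk φ : Over.mk (φ ≫ j.hom) ⟶ j)
    exact ⟨_, ψ, hψ, (he (stage_le D j.hom φ U).le x).trans hk⟩

include hc in
/-- A homomorphism out of a module of finite type vanishing on the limit vanishes at a stage. -/
theorem exists_stage_zero [CompactSpace (D.obj i₀)] {F G : (D.obj i₀).Modules} [F.IsQuasicoherent]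
    [G.IsQuasicoherent] (hF : CohB1.IsFT F) (v : F ⟶ G)
    (h : (Scheme.Modules.pullback (c.π.app i₀)).map v = 0) :
    ∃ (j : I) (φ : j ⟶ i₀), (Scheme.Modules.pullback (D.map φ)).map v = 0 := by
  classical
  haveI : IsAffineHom (pr c i₀) := isAffineHom_π_app D c hc i₀
  obtain ⟨ι, _, W, hW, -, hcov⟩ := QCoh.exists_finite_affine_cover
    (U := (⊤ : (D.obj i₀).Opens)) isCompact_univ
  choose s hs using fun l => (FittSheaf.finite_sections hF ⟨W l, hW l⟩).fg_top
  letI : ∀ l (j : Over i₀), Algebra Γ(D.obj i₀, W l) (secStage (D := D) i₀ (W l) j) := fun l j =>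
    ((D.map j.hom).appLE (W l) (D.map j.hom ⁻¹ᵁ W l) le_rfl).hom.toAlgebra
  have hloc : ∀ l : ι, ∃ j : Over i₀, ∀ m : s l,
      (1 : secStage (D := D) i₀ (W l) j) ⊗ₜ[Γ(D.obj i₀, W l)] v.app (W l) (m : Γ(F, W l)) = 0 := by
    intro l
    letI : Algebra Γ(D.obj i₀, W l) Γ(c.pt, pr c i₀ ⁻¹ᵁ W l) := ((pr c i₀).appLE (W l) _ le_rfl).hom.toAlgebra
    obtain ⟨g, hst⟩ := isStage_sections hc i₀ (hW l)
    obtain ⟨j, ψ, -, hj⟩ := hst.vanish_tmul_finite Γ(G, W l) (Over.mk (𝟙 i₀))
      (fun m : s l => (1 : secStage (D := D) i₀ (W l) (Over.mk (𝟙 i₀))) ⊗ₜ v.app (W l) (m : Γ(F, W l))) fun m => by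
        rw [LinearMap.rTensor_tmul, AlgHom.toLinearMap_apply, map_one]
        refine (pullSec_eq_zero_iff (pr c i₀) G (hW l) ((hW l).preimage _) le_rfl _).1 ?_
        refine (QCoh.pullSec_natural _ v _ (m : Γ(F, W l))).symm.trans ?_
        rw [h]
        rfl
    refine ⟨j, fun m => ?_⟩
    have := hj m
    simp only [LinearMap.rTensor_tmul, AlgHom.toLinearMap_apply] at this
    rw [← map_one ψ]
    exact this
  choose j hj using hloc
  obtain ⟨k, -, φ, -⟩ := IsCofiltered.wideCospan (I := ι) (i := Over.mk (𝟙 i₀))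
    (fun l => (Over.homMk (j l).hom : j l ⟶ Over.mk (𝟙 i₀)))
  refine ⟨k.left, k.hom, ?_⟩
  haveI := FittSheaf.isQuasicoherent_pullback (D.map k.hom) F
  refine FunFlat6.eq_zero_of_cover _ (fun l => D.map k.hom ⁻¹ᵁ W l) (fun l => (hW l).preimage _) (fun y => ?_)
    fun l t => ?_
  · obtain ⟨l, hl⟩ := Opens.mem_iSup.1 (hcov (Opens.mem_top (D.map k.hom y)))
    exact ⟨l, hl⟩
  refine FunFlat6.app_pullback_eq_zero _ v (hW l) ((hW l).preimage _) le_rfl
    (fun m : s l => (m : Γ(F, W l))) ?_ (fun m => ?_) t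
  · rw [show Set.range (fun m : s l => (m : Γ(F, W l))) = (s l : Set _) from Subtype.range_coe]
    exact hs l
  refine (pullSec_eq_zero_iff (D.map k.hom) G (hW l) ((hW l).preimage _) le_rfl _).2 ?_
  have hle : D.map k.hom ⁻¹ᵁ W l ≤ D.map (φ l).left ⁻¹ᵁ (D.map (j l).hom ⁻¹ᵁ W l) := by
    rw [← stage_le D, Over.w (φ l)]
  let tr : secStage (D := D) i₀ (W l) (j l) →ₐ[Γ(D.obj i₀, W l)] secStage (D := D) i₀ (W l) k :=
    { ((D.map (φ l).left).appLE _ _ hle).hom with
      commutes' := fun a => appLE_appLE (show D.map (φ l).left ≫ D.map (j l).hom = D.map k.hom by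
        rw [← D.map_comp, Over.w (φ l)]) _ _ _ _ _ le_rfl a }
  have := congrArg (tr.toLinearMap.rTensor Γ(G, W l)) (hj l m)
  rw [LinearMap.rTensor_tmul, AlgHom.toLinearMap_apply, map_one, map_zero] at this
  exact this

/-- A homomorphism vanishing at a stage vanishes on the limit. -/
theorem pullback_eq_zero_of_stage {Y Z W : Scheme.{u}} (a : Y ⟶ Z) (b : Z ⟶ W) {l : Y ⟶ W} (h : a ≫ b = l)
    {F G : W.Modules} (v : F ⟶ G) (h0 : (Scheme.Modules.pullback b).map v = 0) :
    (Scheme.Modules.pullback l).map v = 0 := by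
  subst h
  rw [← cancel_epi ((Scheme.Modules.pullbackComp a b).hom.app F), comp_zero,
    ← (Scheme.Modules.pullbackComp a b).hom.naturality v, Functor.comp_map, h0, Functor.map_zero, zero_comp]

include hc in
/-- Epimorphisms onto modules of finite type come from a stage. -/
theorem epi_iff_eventually [CompactSpace (D.obj i₀)] {F G : (D.obj i₀).Modules} [F.IsQuasicoherent]
    [G.IsQuasicoherent] (hG : CohB1.IsFT G) (v : F ⟶ G) :
    Epi ((Scheme.Modules.pullback (c.π.app i₀)).map v) ↔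
      ∃ (j : I) (φ : j ⟶ i₀), Epi ((Scheme.Modules.pullback (D.map φ)).map v) := by
  haveI := QCoh.isQuasicoherent_cokernel v
  have hC : IsClosed (CohB1.support (cokernel v)) := QCoh.isClosed_support _ (QCoh.isFiniteType_cokernel v hG)
  constructor
  · intro h
    obtain ⟨j, φ, hj⟩ := Neutral.exists_stage_range_subset D c hc i₀
      (Constr.isIndConstructible_of_isOpen hC.isOpen_compl)
      (by rintro _ ⟨y, rfl⟩; exact (FunFlat6.epi_pullback_iff_forall _ hG v).1 h y)
    exact ⟨j, φ, (FunFlat6.epi_pullback_iff_forall _ hG v).2 fun y => hj ⟨y, rfl⟩⟩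
  · rintro ⟨j, φ, hm⟩
    refine (FunFlat6.epi_pullback_iff_forall _ hG v).2 fun y => ?_
    rw [← c.w φ, Scheme.Hom.comp_apply]
    exact (FunFlat6.epi_pullback_iff_forall _ hG v).1 hm _

include hc in
/-- Isomorphisms onto finitely presented modules come from a stage. -/
theorem isIso_iff_eventually [CompactSpace (D.obj i₀)] {F G : (D.obj i₀).Modules} [F.IsQuasicoherent]
    [G.IsQuasicoherent] (hF : CohB1.IsFT F) (hG : CohB1.IsFP G) (v : F ⟶ G) :
    IsIso ((Scheme.Modules.pullback (c.π.app i₀)).map v) ↔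
      ∃ (j : I) (φ : j ⟶ i₀), IsIso ((Scheme.Modules.pullback (D.map φ)).map v) := by
  constructor
  · intro h
    obtain ⟨j, φ, hepi⟩ := (epi_iff_eventually hc i₀ (LimRank8.isFT_of_isFP G hG) v).1 inferInstance
    let Fj := (Scheme.Modules.pullback (D.map φ)).obj F
    let Gj := (Scheme.Modules.pullback (D.map φ)).obj G
    haveI : Fj.IsQuasicoherent := FittSheaf.isQuasicoherent_pullback (D.map φ) F
    haveI : Gj.IsQuasicoherent := FittSheaf.isQuasicoherent_pullback (D.map φ) G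
    let vj : Fj ⟶ Gj := (Scheme.Modules.pullback (D.map φ)).map v
    haveI : Epi vj := hepi
    have hK := FunFlat6.isFT_kernel (FunFlat6.isFT_pullback (D.map φ) F hF)
      (FittSheaf.isFP_pullback (D.map φ) G hG) vj
    haveI := QCoh.isQuasicoherent_kernel vj
    haveI : IsAffineHom (D.map φ) := inferInstance
    haveI : CompactSpace (D.obj j) := QuasiCompact.compactSpace_of_compactSpace (D.map φ)
    have hvj : IsIso ((Scheme.Modules.pullback (c.π.app j)).map vj) := by
      have hn : IsIso ((Scheme.Modules.pullback (D.map φ) ⋙ Scheme.Modules.pullback (c.π.app j)).map v) :=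
        (NatIso.isIso_map_iff (Scheme.Modules.pullbackComp (c.π.app j) (D.map φ) ≪≫
          Scheme.Modules.pullbackCongr (c.w φ)) v).2 h
      exact hn
    have h0 : (Scheme.Modules.pullback (c.π.app j)).map (kernel.ι vj) = 0 := by
      rw [← cancel_mono ((Scheme.Modules.pullback (c.π.app j)).map vj), ← Functor.map_comp, kernel.condition,
        Functor.map_zero, zero_comp]
    obtain ⟨l, ψ, hl⟩ := exists_stage_zero hc j hK (kernel.ι vj) h0
    refine ⟨l, ψ ≫ φ, ?_⟩
    haveI : (Scheme.Modules.pullback (D.map ψ)).IsLeftAdjoint :=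
      (Scheme.Modules.pullbackPushforwardAdjunction (D.map ψ)).isLeftAdjoint
    have hiso : IsIso ((Scheme.Modules.pullback (D.map ψ)).map vj) := by
      have hcok : IsColimit (CokernelCofork.ofπ ((Scheme.Modules.pullback (D.map ψ)).map vj)
          (by rw [← Functor.map_comp, kernel.condition, Functor.map_zero]) :
          CokernelCofork ((Scheme.Modules.pullback (D.map ψ)).map (kernel.ι vj))) :=
        CokernelCofork.mapIsColimit (CokernelCofork.ofπ vj (kernel.condition vj))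
          (Abelian.epiIsCokernelOfKernel (Fork.ofι (kernel.ι vj) (by rw [kernel.condition, comp_zero])) (kernelIsKernel vj)) (Scheme.Modules.pullback (D.map ψ))
      exact CokernelCofork.IsColimit.isIso_π _ hcok hl
    exact (NatIso.isIso_map_iff (Scheme.Modules.pullbackComp (D.map ψ) (D.map φ) ≪≫
      Scheme.Modules.pullbackCongr (D.map_comp ψ φ).symm) v).1 hiso
  · rintro ⟨j, φ, hm⟩
    refine (NatIso.isIso_map_iff (Scheme.Modules.pullbackComp (c.π.app j) (D.map φ) ≪≫
      Scheme.Modules.pullbackCongr (c.w φ)) v).1 ?_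
    exact inferInstanceAs (IsIso ((Scheme.Modules.pullback (c.π.app j)).map ((Scheme.Modules.pullback (D.map φ)).map v)))

end GrothLib.LimModMap20
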