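import Groth.Agent.Lib.LimModMap20.Basic
import Mathlib.Algebra.Homology.ShortComplex.ExactFunctor

/-!
# Right exact sequences of modules descend along limits
-/

set_option autoImplicit false
set_option linter.style.haveILetI false
set_option backward.isDefEq.respectTransparency false
set_option maxHeartbeats 1000000
set_option linter.unusedSectionVars false

universe u

open CategoryTheory CategoryTheory.Limits AlgebraicGeometry Opposite

noncomputable section

namespace GrothLib.LimModMap20

section abelian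

variable {A B C : Type*} [Category A] [Category B] [Category C] [Abelian A] [Abelian B] [Abelian C]
  {X Y Z : A} (f : X ⟶ Y) (g : Y ⟶ Z)

/-- The image of `X ⟶ Y ⟶ Z ⟶ 0` is exact. -/
def Good (F : A ⥤ B) : Prop :=
  ∃ w : F.map f ≫ F.map g = 0, (ShortComplex.mk _ _ w).Exact ∧ Epi (F.map g)

theorem Good.of_natIso {F G : A ⥤ B} (e : F ≅ G) (h : Good f g F) : Good f g G := by
  obtain ⟨w, hex, hepi⟩ := h
  have w' : G.map f ≫ G.map g = 0 := by
    rw [← cancel_epi (e.hom.app X), comp_zero, ← e.hom.naturality_assoc, ← e.hom.naturality,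
      ← Category.assoc, w, zero_comp]
  refine ⟨w', ShortComplex.exact_of_iso (ShortComplex.isoMk (e.app X) (e.app Y) (e.app Z)
    (e.hom.naturality f).symm (e.hom.naturality g).symm) hex, ?_⟩
  have : G.map g = e.inv.app Y ≫ F.map g ≫ e.hom.app Z := by
    rw [e.hom.naturality, Iso.inv_hom_id_app_assoc]
  rw [this]
  infer_instance

theorem good_comp_iff (F : A ⥤ B) (w : F.map f ≫ F.map g = 0) (G : B ⥤ C) [G.PreservesZeroMorphisms]
    [PreservesColimit (parallelPair (F.map f) 0) G] :
    Good f g (F ⋙ G) ↔ IsIso (G.map (cokernel.desc (F.map f) (F.map g) w)) := by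
  let v := cokernel.desc (F.map f) (F.map g) w
  let c : CokernelCofork (F.map f) := CokernelCofork.ofπ _ (cokernel.condition (F.map f))
  have hc : IsColimit (c.map G) := CokernelCofork.mapIsColimit c (cokernelIsCokernel (F.map f)) G
  have hw : (F ⋙ G).map f ≫ (F ⋙ G).map g = 0 := by
    rw [Functor.comp_map, Functor.comp_map, ← G.map_comp, w, G.map_zero]
  have hv : G.map (cokernel.π (F.map f)) ≫ G.map v = G.map (F.map g) := by
    rw [← G.map_comp, cokernel.π_desc]
  constructor
  · rintro ⟨w', hex, hepi⟩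
    obtain ⟨hd⟩ := (ShortComplex.mk _ _ w').exact_and_epi_g_iff_g_is_cokernel.1 ⟨hex, hepi⟩
    have : G.map v = (hc.coconePointUniqueUpToIso hd).hom := by
      refine Cofork.IsColimit.hom_ext hc ?_
      refine hv.trans ?_
      exact (hc.comp_coconePointUniqueUpToIso_hom hd WalkingParallelPair.one).symm
    exact this ▸ inferInstance
  · intro h
    refine ⟨hw, (ShortComplex.mk _ _ hw).exact_and_epi_g_iff_g_is_cokernel.2 ⟨?_⟩⟩
    exact IsColimit.ofIsoColimit hc (Cofork.ext (asIso (G.map v)) hv)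

end abelian

variable {I : Type u} [SmallCategory I] [IsCofiltered I] {D : I ⥤ Scheme.{u}} {c : Cone D} (hc : IsLimit c)
  [∀ (i j : I) (f : i ⟶ j), IsAffineHom (D.map f)] (i₀ : I)

include hc in
/-- Right exactness comes from a stage. -/
theorem good_iff_eventually [CompactSpace (D.obj i₀)] {F G H : (D.obj i₀).Modules} [F.IsQuasicoherent]
    [G.IsQuasicoherent] [H.IsQuasicoherent] (hF : CohB1.IsFT F) (hG : CohB1.IsFT G) (hH : CohB1.IsFP H)
    (f : F ⟶ G) (g : G ⟶ H) :
    Good f g (Scheme.Modules.pullback (c.π.app i₀)) ↔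
      ∃ (j : I) (φ : j ⟶ i₀), Good f g (Scheme.Modules.pullback (D.map φ)) := by
  haveI : ∀ {Y Z : Scheme.{u}} (q : Y ⟶ Z), (Scheme.Modules.pullback q).IsLeftAdjoint := fun q =>
    (Scheme.Modules.pullbackPushforwardAdjunction q).isLeftAdjoint
  haveI : ∀ {Y Z : Scheme.{u}} (q : Y ⟶ Z), (Scheme.Modules.pullback q).Additive := fun q =>
    (Scheme.Modules.pullbackPushforwardAdjunction q).left_adjoint_additive
  constructor
  · rintro ⟨w, hw⟩
    obtain ⟨j, φ, h0⟩ := exists_stage_zero hc i₀ hF (f ≫ g) (by rw [Functor.map_comp]; exact w)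
    rw [Functor.map_comp] at h0
    let Pj := Scheme.Modules.pullback (D.map φ)
    haveI : (Pj.obj F).IsQuasicoherent := FittSheaf.isQuasicoherent_pullback (D.map φ) F
    haveI : (Pj.obj G).IsQuasicoherent := FittSheaf.isQuasicoherent_pullback (D.map φ) G
    haveI : (Pj.obj H).IsQuasicoherent := FittSheaf.isQuasicoherent_pullback (D.map φ) H
    haveI := QCoh.isQuasicoherent_cokernel (Pj.map f)
    haveI : CompactSpace (D.obj j) := QuasiCompact.compactSpace_of_compactSpace (D.map φ)
    have hv := (good_comp_iff f g Pj h0 (Scheme.Modules.pullback (c.π.app j))).1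
      (Good.of_natIso f g (Scheme.Modules.pullbackComp (c.π.app j) (D.map φ) ≪≫
        Scheme.Modules.pullbackCongr (c.w φ)).symm ⟨w, hw⟩)
    obtain ⟨l, ψ, hl⟩ := (isIso_iff_eventually hc j (QCoh.isFiniteType_cokernel _ (FunFlat6.isFT_pullback (D.map φ) G hG))
      (FittSheaf.isFP_pullback (D.map φ) H hH) _).1 hv
    exact ⟨l, ψ ≫ φ, Good.of_natIso f g (Scheme.Modules.pullbackComp (D.map ψ) (D.map φ) ≪≫
      Scheme.Modules.pullbackCongr (D.map_comp ψ φ).symm) ((good_comp_iff f g Pj h0 _).2 hl)⟩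
  · rintro ⟨j, φ, w, hex, hepi⟩
    let Pj := Scheme.Modules.pullback (D.map φ)
    have h1 : Good f g (Pj ⋙ 𝟭 _) := ⟨w, hex, hepi⟩
    haveI : IsIso (cokernel.desc (Pj.map f) (Pj.map g) w) := (good_comp_iff f g Pj w (𝟭 _)).1 h1
    exact Good.of_natIso f g (Scheme.Modules.pullbackComp (c.π.app j) (D.map φ) ≪≫
      Scheme.Modules.pullbackCongr (c.w φ)) ((good_comp_iff f g Pj w _).2 inferInstance)

end GrothLib.LimModMap20
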