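import Groth.Agent.Lib.LimModMap20.Hom
import Groth.Agent.S4788

/-!
# Isomorphisms and quotients descend along limits
-/

set_option autoImplicit false
set_option linter.style.haveILetI false
set_option linter.unusedSectionVars false
set_option backward.isDefEq.respectTransparency false
set_option maxHeartbeats 1000000

universe u

open CategoryTheory CategoryTheory.Limits AlgebraicGeometry Opposite TopologicalSpace
open GrothLib.BCCoh (pullRes)

noncomputable section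

namespace GrothLib.LimModMap20

section coherence

variable {Y Y' Y'' Z : Scheme.{u}} {F : Z.Modules} {q : Y ⟶ Z} {q' : Y' ⟶ Z}

theorem pullIso_hom_pullRes (t : Y' ⟶ Y) (h : t ≫ q = q') (V : Z.Opens) (V₁ : Y.Opens) (V₂ : Y'.Opens)
    (e₁ : V₁ ≤ q ⁻¹ᵁ V) (e₂ : V₂ ≤ t ⁻¹ᵁ V₁) (e : V₂ ≤ q' ⁻¹ᵁ V) (m : Γ(F, V)) :
    (pullIso F t h).hom.app V₂ (pullRes t _ V₁ V₂ e₂ (pullRes q F V V₁ e₁ m)) = pullRes q' F V V₂ e m := by
  subst h
  rw [Iso.app_hom, Iso.trans_hom, NatTrans.comp_app, Scheme.Modules.Hom.comp_app, ConcreteCategory.comp_apply]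
  exact (congrArg (((Scheme.Modules.pullbackCongr rfl).hom.app F).app V₂)
    (CohPullLib.pullbackComp_pullRes t q F V V₁ V₂ e₁ e₂ e m)).trans
    (CohPullLib.pullbackCongr_pullRes rfl F V V₂ e e m)

theorem pullIso_inv_pullRes (t : Y' ⟶ Y) (h : t ≫ q = q') (V : Z.Opens) (V₁ : Y.Opens) (V₂ : Y'.Opens)
    (e₁ : V₁ ≤ q ⁻¹ᵁ V) (e₂ : V₂ ≤ t ⁻¹ᵁ V₁) (e : V₂ ≤ q' ⁻¹ᵁ V) (m : Γ(F, V)) :
    (pullIso F t h).inv.app V₂ (pullRes q' F V V₂ e m) = pullRes t _ V₁ V₂ e₂ (pullRes q F V V₁ e₁ m) := by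
  rw [← pullIso_hom_pullRes t h V V₁ V₂ e₁ e₂ e m, ← ConcreteCategory.comp_apply, ← Scheme.Modules.Hom.comp_app,
    Iso.hom_inv_id]
  rfl

/-- Associativity of the identifications. -/
theorem pullIso_assoc {W : Scheme.{u}} {q'' : W ⟶ Z} (t : Y' ⟶ Y) (t' : W ⟶ Y') (s : W ⟶ Y) (h : t ≫ q = q')
    (h' : t' ≫ q' = q'') (hs : t' ≫ t = s) (h'' : s ≫ q = q'') :
    (pullIso F t' h').inv ≫ (Scheme.Modules.pullback t').map (pullIso F t h).inv ≫
      (pullIso ((Scheme.Modules.pullback q).obj F) t' hs).hom ≫ (pullIso F s h'').hom = 𝟙 _ := by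
  refine hom_ext_pullRes fun U m => ?_
  have e₁ : q' ⁻¹ᵁ U.1 ≤ t ⁻¹ᵁ (q ⁻¹ᵁ U.1) := by rw [← h]; rfl
  have e₂ : q'' ⁻¹ᵁ U.1 ≤ t' ⁻¹ᵁ (q' ⁻¹ᵁ U.1) := by rw [← h']; rfl
  have e₃ : q'' ⁻¹ᵁ U.1 ≤ s ⁻¹ᵁ (q ⁻¹ᵁ U.1) := by rw [← h'']; rfl
  simp only [Scheme.Modules.Hom.comp_app, ConcreteCategory.comp_apply]
  rw [pullIso_inv_pullRes t' h' U.1 (q' ⁻¹ᵁ U.1) (q'' ⁻¹ᵁ U.1) le_rfl e₂ le_rfl m, CohPullLib.pullRes_map,
    pullIso_inv_pullRes t h U.1 (q ⁻¹ᵁ U.1) (q' ⁻¹ᵁ U.1) le_rfl e₁ le_rfl m,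
    pullIso_hom_pullRes t' hs (q ⁻¹ᵁ U.1) (q' ⁻¹ᵁ U.1) (q'' ⁻¹ᵁ U.1) e₁ e₂ e₃,
    pullIso_hom_pullRes s h'' U.1 (q ⁻¹ᵁ U.1) (q'' ⁻¹ᵁ U.1) le_rfl e₃ le_rfl m]
  rfl

end coherence

variable {I : Type u} [SmallCategory I] [IsCofiltered I] {D : I ⥤ Scheme.{u}} {c : Cone D} (hc : IsLimit c)
  [∀ (i j : I) (f : i ⟶ j), IsAffineHom (D.map f)] (i₀ : I)

include hc in
/-- Isomorphism descends. -/
theorem nonempty_iso_iff_eventually [CompactSpace (D.obj i₀)] [QuasiSeparatedSpace (D.obj i₀)]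
    {F G : (D.obj i₀).Modules} [F.IsQuasicoherent] [G.IsQuasicoherent] (hF : CohB1.IsFP F) (hG : CohB1.IsFP G) :
    Nonempty ((Scheme.Modules.pullback (c.π.app i₀)).obj F ≅ (Scheme.Modules.pullback (c.π.app i₀)).obj G) ↔
      ∃ (j : I) (φ : j ⟶ i₀),
        Nonempty ((Scheme.Modules.pullback (D.map φ)).obj F ≅ (Scheme.Modules.pullback (D.map φ)).obj G) := by
  constructor
  · rintro ⟨e⟩
    obtain ⟨j, φ, hj, hh⟩ := exists_conjPull_eq hc i₀ hF e.hom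
    haveI : ((Scheme.Modules.pullback (D.map φ)).obj F).IsQuasicoherent :=
      FittSheaf.isQuasicoherent_pullback (D.map φ) F
    haveI : ((Scheme.Modules.pullback (D.map φ)).obj G).IsQuasicoherent :=
      FittSheaf.isQuasicoherent_pullback (D.map φ) G
    haveI : CompactSpace (D.obj j) := QuasiCompact.compactSpace_of_compactSpace (D.map φ)
    haveI : IsIso (conjPull (c.π.app j) (c.w φ) hj) := hh ▸ inferInstance
    have hiso : IsIso ((Scheme.Modules.pullback (c.π.app j)).map hj) := by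
      haveI : IsIso ((Scheme.Modules.pullback (c.π.app j)).map hj ≫ (pullIso G (c.π.app j) (c.w φ)).hom) :=
        IsIso.of_isIso_comp_left (pullIso F (c.π.app j) (c.w φ)).inv _
      exact IsIso.of_isIso_comp_right _ (pullIso G (c.π.app j) (c.w φ)).hom
    obtain ⟨l, χ, hl⟩ := (isIso_iff_eventually hc j (FunFlat6.isFT_pullback (D.map φ) F (LimRank8.isFT_of_isFP F hF))
      (FittSheaf.isFP_pullback (D.map φ) G hG) hj).1 hiso
    exact ⟨l, χ ≫ φ, ⟨(pullIso F (D.map χ) (D.map_comp χ φ).symm).symm ≪≫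
      asIso ((Scheme.Modules.pullback (D.map χ)).map hj) ≪≫ pullIso G (D.map χ) (D.map_comp χ φ).symm⟩⟩
  · rintro ⟨j, φ, ⟨e⟩⟩
    exact ⟨(pullIso F (c.π.app j) (c.w φ)).symm ≪≫ (Scheme.Modules.pullback (c.π.app j)).mapIso e ≪≫
      pullIso G (c.π.app j) (c.w φ)⟩

include hc in
/-- Finitely presented quotients descend. -/
theorem exists_quotient_stage [CompactSpace (D.obj i₀)] [QuasiSeparatedSpace (D.obj i₀)] {F₀ : (D.obj i₀).Modules}
    [F₀.IsQuasicoherent] (hF₀ : CohB1.IsFP F₀) {G : c.pt.Modules} [G.IsQuasicoherent] (hG : CohB1.IsFP G)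
    (p : (Scheme.Modules.pullback (c.π.app i₀)).obj F₀ ⟶ G) [Epi p] :
    ∃ (j : I) (φ : j ⟶ i₀) (Gj : (D.obj j).Modules) (_ : Coh.IsQCoh Gj)
      (pj : (Scheme.Modules.pullback (D.map φ)).obj F₀ ⟶ Gj) (e : (Scheme.Modules.pullback (c.π.app j)).obj Gj ≅ G),
      CohB1.IsFP Gj ∧ Epi pj ∧
        (pullIso F₀ (c.π.app j) (c.w φ)).inv ≫ (Scheme.Modules.pullback (c.π.app j)).map pj ≫ e.hom = p := by
  haveI : Coh.IsQCoh G := ‹G.IsQuasicoherent›
  obtain ⟨a, φ₀, G', hG'q, hG', ⟨α⟩⟩ := Groth.Agent.S4788.result D c hc i₀ G hG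
  haveI : G'.IsQuasicoherent := hG'q
  haveI : CompactSpace (D.obj a) := QuasiCompact.compactSpace_of_compactSpace (D.map φ₀)
  haveI : QuasiSeparatedSpace (D.obj a) := quasiSeparatedSpace_of_quasiSeparated (D.map φ₀)
  let F' := (Scheme.Modules.pullback (D.map φ₀)).obj F₀
  haveI : F'.IsQuasicoherent := FittSheaf.isQuasicoherent_pullback (D.map φ₀) F₀
  let h := (pullIso F₀ (c.π.app a) (c.w φ₀)).hom ≫ p ≫ α.inv
  obtain ⟨j, φ, hj, hh⟩ := exists_conjPull_eq hc a (FittSheaf.isFP_pullback (D.map φ₀) F₀ hF₀) h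
  haveI : CompactSpace (D.obj j) := QuasiCompact.compactSpace_of_compactSpace (D.map φ)
  haveI : ((Scheme.Modules.pullback (D.map φ)).obj F').IsQuasicoherent :=
    FittSheaf.isQuasicoherent_pullback (D.map φ) F'
  haveI : ((Scheme.Modules.pullback (D.map φ)).obj G').IsQuasicoherent :=
    FittSheaf.isQuasicoherent_pullback (D.map φ) G'
  have hepi : Epi ((Scheme.Modules.pullback (c.π.app j)).map hj) := by
    have : (Scheme.Modules.pullback (c.π.app j)).map hj =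
        (pullIso F' (c.π.app j) (c.w φ)).hom ≫ h ≫ (pullIso G' (c.π.app j) (c.w φ)).inv := by
      rw [← hh]
      simp only [conjPull, Category.assoc, Iso.hom_inv_id, Category.comp_id]
      erw [Iso.hom_inv_id_assoc]
    rw [this]
    infer_instance
  obtain ⟨l, χ, hl⟩ := (epi_iff_eventually hc j (LimRank8.isFT_of_isFP _ (FittSheaf.isFP_pullback (D.map φ) G' hG')) hj).1 hepi
  let ψ : l ⟶ a := χ ≫ φ
  have hw : D.map ψ ≫ D.map φ₀ = D.map (ψ ≫ φ₀) := (D.map_comp _ _).symm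
  let k := conjPull (D.map χ) (D.map_comp χ φ).symm hj
  haveI : Epi k := inferInstance
  refine ⟨l, ψ ≫ φ₀, (Scheme.Modules.pullback (D.map ψ)).obj G', FittSheaf.isQuasicoherent_pullback (D.map ψ) G',
    (pullIso F₀ (D.map ψ) hw).inv ≫ k, pullIso G' (c.π.app l) (c.w ψ) ≪≫ α,
    FittSheaf.isFP_pullback (D.map ψ) G' hG', inferInstance, ?_⟩
  have h1 : conjPull (c.π.app l) (c.w ψ) k = h := by
    rw [← hh]
    exact conjPull_stage hc a φ χ (D.map_comp χ φ).symm hj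
  have h2 : (Scheme.Modules.pullback (c.π.app l)).map k ≫ (pullIso G' (c.π.app l) (c.w ψ)).hom =
      (pullIso F' (c.π.app l) (c.w ψ)).hom ≫ h := by
    rw [← h1, Iso.hom_inv_id_assoc]
  have h3 : (Scheme.Modules.pullback (c.π.app l)).map k ≫ (pullIso G' (c.π.app l) (c.w ψ)).hom ≫ α.hom =
      (pullIso F' (c.π.app l) (c.w ψ)).hom ≫ (pullIso F₀ (c.π.app a) (c.w φ₀)).hom ≫ p := by
    rw [← Category.assoc (obj := c.pt.Modules), h2]
    simp only [h, Category.assoc, Iso.inv_hom_id, Category.comp_id]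
  have h4 := pullIso_assoc (F := F₀) (D.map ψ) (c.π.app l) (c.π.app a) hw (c.w (ψ ≫ φ₀)) (c.w ψ) (c.w φ₀)
  have h5 := congrArg (· ≫ p) h4
  simp only [Category.assoc (obj := c.pt.Modules), Category.id_comp] at h5
  rw [(Scheme.Modules.pullback (c.π.app l)).map_comp, Iso.trans_hom, Category.assoc (obj := c.pt.Modules), h3]
  exact h5

end GrothLib.LimModMap20
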