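import Groth.Agent.Lib.LimModMap20.Basic

/-!
# Factorization through a quotient descends along limits
-/

set_option autoImplicit false
set_option linter.style.haveILetI false
set_option backward.isDefEq.respectTransparency false
set_option maxHeartbeats 1000000

universe u

open CategoryTheory CategoryTheory.Limits AlgebraicGeometry Opposite

noncomputable section

namespace GrothLib.LimModMap20

variable {S : Scheme.{u}} {F G₁ G₂ : S.Modules} (p₁ : F ⟶ G₁) (p₂ : F ⟶ G₂)

theorem factors_pullback_iff [Epi p₁] {Y : Scheme.{u}} (q : Y ⟶ S) :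
    (∃ k : (Scheme.Modules.pullback q).obj G₁ ⟶ (Scheme.Modules.pullback q).obj G₂,
        (Scheme.Modules.pullback q).map p₁ ≫ k = (Scheme.Modules.pullback q).map p₂) ↔
      (Scheme.Modules.pullback q).map (kernel.ι p₁ ≫ p₂) = 0 := by
  haveI : (Scheme.Modules.pullback q).IsLeftAdjoint :=
    (Scheme.Modules.pullbackPushforwardAdjunction q).isLeftAdjoint
  have hcok : IsColimit (CokernelCofork.ofπ ((Scheme.Modules.pullback q).map p₁)
      (by rw [← Functor.map_comp, kernel.condition, Functor.map_zero]) :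
      CokernelCofork ((Scheme.Modules.pullback q).map (kernel.ι p₁))) :=
    CokernelCofork.mapIsColimit (CokernelCofork.ofπ p₁ (kernel.condition p₁))
      (Abelian.epiIsCokernelOfKernel (Fork.ofι (kernel.ι p₁) (by rw [kernel.condition, comp_zero])) (kernelIsKernel p₁))
      (Scheme.Modules.pullback q)
  rw [Functor.map_comp]
  constructor
  · rintro ⟨k, hk⟩
    rw [← hk, ← Category.assoc, ← Functor.map_comp, kernel.condition, Functor.map_zero, zero_comp]
  · intro h
    obtain ⟨k, hk⟩ := CokernelCofork.IsColimit.desc' hcok _ h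
    exact ⟨k, hk⟩

variable {I : Type u} [SmallCategory I] [IsCofiltered I] {D : I ⥤ Scheme.{u}} {c : Cone D} (hc : IsLimit c)
  [∀ (i j : I) (f : i ⟶ j), IsAffineHom (D.map f)] (i₀ : I)

include hc in
theorem factors_iff_eventually [CompactSpace (D.obj i₀)] {F G₁ G₂ : (D.obj i₀).Modules} [F.IsQuasicoherent]
    [G₁.IsQuasicoherent] [G₂.IsQuasicoherent] (hF : CohB1.IsFT F) (hG₁ : CohB1.IsFP G₁) (p₁ : F ⟶ G₁)
    (p₂ : F ⟶ G₂) [Epi p₁] :
    (∃ k : (Scheme.Modules.pullback (c.π.app i₀)).obj G₁ ⟶ (Scheme.Modules.pullback (c.π.app i₀)).obj G₂,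
        (Scheme.Modules.pullback (c.π.app i₀)).map p₁ ≫ k = (Scheme.Modules.pullback (c.π.app i₀)).map p₂) ↔
      ∃ (j : I) (φ : j ⟶ i₀) (k : (Scheme.Modules.pullback (D.map φ)).obj G₁ ⟶ (Scheme.Modules.pullback (D.map φ)).obj G₂),
        (Scheme.Modules.pullback (D.map φ)).map p₁ ≫ k = (Scheme.Modules.pullback (D.map φ)).map p₂ := by
  simp only [factors_pullback_iff]
  haveI := QCoh.isQuasicoherent_kernel p₁
  exact ⟨fun h => exists_stage_zero hc i₀ (FunFlat6.isFT_kernel hF hG₁ p₁) _ h,
    fun ⟨j, φ, h⟩ => pullback_eq_zero_of_stage (c.π.app j) (D.map φ) (c.w φ) _ h⟩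

end GrothLib.LimModMap20
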